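import Mathlib

/-!
# Universal finite open subschemes of a quasi-finite morphism, part A (helper5)

Ring-level input: presentations of finite finitely presented algebras as modules and their
base change; a finitely presented algebra given by generators and relations.
-/

set_option autoImplicit false
universe u
open TensorProduct

namespace Groth.Agent.H5.FO

/-- A finite, finitely presented algebra has a module presentation which stays a presentation
after every base change. -/
lemma exists_presentation (A B : Type u) [CommRing A] [CommRing B] [Algebra A B]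
    [Module.Finite A B] [Algebra.FinitePresentation A B] :
    ∃ (N M : ℕ) (e : Fin N → B) (rel : Fin M → Fin N → A),
      (∀ x : B, ∃ r : Fin N → A, x = ∑ i, r i • e i) ∧ (∀ l, ∑ i, rel l i • e i = 0) ∧
      ∀ (A' : Type u) [CommRing A'] [Algebra A A'] (β : Fin N → A'),
        (∑ i, β i ⊗ₜ[A] e i : A' ⊗[A] B) = 0 →
        ∃ μ : Fin M → A', ∀ i, β i = ∑ l, μ l * algebraMap A A' (rel l i) := by
  haveI : Module.FinitePresentation A B := .of_finite_of_finitePresentation A B
  obtain ⟨N, M, f, g, hf, hfg⟩ := Module.FinitePresentation.exists_fin' A B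
  have hδN : ∀ i : Fin N, (fun j => if i = j then (1 : A) else 0) = Pi.single i 1 := fun i => by
    ext j; simp [Pi.single_apply, eq_comm]
  have hδM : ∀ l : Fin M, (fun j => if l = j then (1 : A) else 0) = Pi.single l 1 := fun l => by
    ext j; simp [Pi.single_apply, eq_comm]
  have hfsum : ∀ r : Fin N → A, f r = ∑ i, r i • f (Pi.single i 1) := fun r => by
    rw [LinearMap.pi_apply_eq_sum_univ f r]
    simp_rw [hδN]
  have hgsum : ∀ v : Fin M → A, g v = ∑ l, v l • g (Pi.single l 1) := fun v => by
    rw [LinearMap.pi_apply_eq_sum_univ g v]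
    simp_rw [hδM]
  refine ⟨N, M, fun i => f (Pi.single i 1), fun l => g (Pi.single l 1), ?_, ?_, ?_⟩
  · intro x
    obtain ⟨r, rfl⟩ := hf x
    exact ⟨r, hfsum r⟩
  · intro l
    rw [← hfsum]
    exact hfg.apply_apply_eq_zero _
  · intro A' _ _ β hβ
    let z : A' ⊗[A] (Fin N → A) := ∑ i, β i ⊗ₜ[A] (Pi.single i (1 : A))
    have hz : (f.lTensor A') z = 0 := by
      rw [map_sum]
      simpa using hβ
    obtain ⟨w, hw⟩ := (lTensor_exact A' hfg hf z).mp hz
    let P := TensorProduct.piScalarRight A A A' (Fin M)
    let Q := TensorProduct.piScalarRight A A A' (Fin N)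
    have key : ∀ w : A' ⊗[A] (Fin M → A), ∀ i, Q ((g.lTensor A') w) i =
        ∑ l, (P w l) * algebraMap A A' (g (Pi.single l 1) i) := by
      intro w i
      induction w using TensorProduct.induction_on with
      | zero => simp
      | tmul a v =>
        simp only [LinearMap.lTensor_tmul, P, Q, TensorProduct.piScalarRight_apply,
          TensorProduct.piScalarRightHom_tmul]
        rw [hgsum v]
        simp only [Finset.sum_apply, Pi.smul_apply, smul_eq_mul, Finset.sum_smul]
        refine Finset.sum_congr rfl fun l _ => ?_
        rw [Algebra.smul_def, Algebra.smul_def, map_mul]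
        ring
      | add x y hx hy =>
        simp only [map_add, Pi.add_apply, hx, hy, add_mul, Finset.sum_add_distrib]
    have hQz : ∀ i, Q z i = β i := by
      intro i
      simp only [z, Q, map_sum, TensorProduct.piScalarRight_apply,
        TensorProduct.piScalarRightHom_tmul, Finset.sum_apply]
      rw [Finset.sum_eq_single i]
      · simp
      · intro j _ hji
        simp [Pi.single_apply, hji.symm]
      · simp
    refine ⟨fun l => P w l, fun i => ?_⟩
    rw [← hQz i, ← hw]
    exact key w i

section QAlg

variable (A : Type u) [CommRing A] {σ ρ : Type} (rels : ρ → MvPolynomial σ A)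

/-- The algebra with generators `σ` and relations `rels`. -/
abbrev QAlg : Type u := MvPolynomial σ A ⧸ Ideal.span (Set.range rels)

instance [Finite σ] [Finite ρ] : Algebra.FinitePresentation A (QAlg A rels) := by
  refine Algebra.FinitePresentation.quotient ?_
  exact ⟨(Set.finite_range rels).toFinset, by simp⟩

variable {A rels}

/-- The class of a generator. -/
noncomputable def QAlg.gen (s : σ) : QAlg A rels := Ideal.Quotient.mk _ (MvPolynomial.X s)

lemma QAlg.mk_rel (k : ρ) : (Ideal.Quotient.mk (Ideal.span (Set.range rels)) (rels k)) = 0 :=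
  Ideal.Quotient.eq_zero_iff_mem.mpr (Ideal.subset_span ⟨k, rfl⟩)

/-- The universal property of `QAlg`. -/
noncomputable def QAlg.lift {A' : Type u} [CommRing A'] [Algebra A A'] (v : σ → A')
    (hv : ∀ k, MvPolynomial.aeval v (rels k) = 0) : QAlg A rels →ₐ[A] A' :=
  Ideal.Quotient.liftₐ _ (MvPolynomial.aeval v) (by
    intro x hx
    have : Ideal.span (Set.range rels) ≤ RingHom.ker (MvPolynomial.aeval v : _ →ₐ[A] A') := by
      rw [Ideal.span_le]
      rintro _ ⟨k, rfl⟩
      exact hv k
    exact this hx)

lemma QAlg.lift_gen {A' : Type u} [CommRing A'] [Algebra A A'] (v : σ → A')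
    (hv : ∀ k, MvPolynomial.aeval v (rels k) = 0) (s : σ) :
    QAlg.lift v hv (QAlg.gen s) = v s := by
  simp [QAlg.lift, QAlg.gen]

end QAlg

end Groth.Agent.H5.FO
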