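import Mathlib

/-!
# Universal finite open subschemes of a quasi-finite morphism, part B (helper5)

Linear combinations of module generators on base changes and their multiplication table.
-/

set_option autoImplicit false
universe u
open CategoryTheory CategoryTheory.Limits AlgebraicGeometry

namespace Groth.Agent.H5.FO

variable {Y T Y' T' : Scheme.{u}} {π : T ⟶ Y} {b : Y' ⟶ Y} {fstT : T' ⟶ T} {sndT : T' ⟶ Y'}
  {N M K : ℕ}

/-- The linear combination of the pulled back generators with coefficients `β`. -/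
noncomputable def Phi (fstT : T' ⟶ T) (sndT : T' ⟶ Y') (e : Fin N → Γ(T, ⊤))
    (β : Fin N → Γ(Y', ⊤)) : Γ(T', ⊤) :=
  ∑ i, sndT.appTop (β i) * fstT.appTop (e i)

lemma appTop_comm (hw : fstT ≫ π = sndT ≫ b) (x : Γ(Y, ⊤)) :
    fstT.appTop (π.appTop x) = sndT.appTop (b.appTop x) := by
  have : (fstT ≫ π).appTop x = (sndT ≫ b).appTop x := by rw [hw]
  rw [Scheme.Hom.comp_appTop, Scheme.Hom.comp_appTop] at this
  exact this

variable (e : Fin N → Γ(T, ⊤))

lemma Phi_add (β β' : Fin N → Γ(Y', ⊤)) :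
    Phi fstT sndT e (β + β') = Phi fstT sndT e β + Phi fstT sndT e β' := by
  unfold Phi
  rw [← Finset.sum_add_distrib]
  refine Finset.sum_congr rfl fun i _ => ?_
  rw [Pi.add_apply, map_add, add_mul]

lemma Phi_smul (c : Γ(Y', ⊤)) (β : Fin N → Γ(Y', ⊤)) :
    Phi fstT sndT e (fun i => c * β i) = sndT.appTop c * Phi fstT sndT e β := by
  unfold Phi
  rw [Finset.mul_sum]
  refine Finset.sum_congr rfl fun i _ => ?_
  rw [map_mul, mul_assoc]

lemma Phi_sum {ι : Type*} (s : Finset ι) (β : ι → Fin N → Γ(Y', ⊤)) :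
    Phi fstT sndT e (fun i => ∑ l ∈ s, β l i) = ∑ l ∈ s, Phi fstT sndT e (β l) := by
  unfold Phi
  rw [Finset.sum_comm]
  refine Finset.sum_congr rfl fun i _ => ?_
  rw [map_sum, Finset.sum_mul]

lemma Phi_congr {β β' : Fin N → Γ(Y', ⊤)} (h : ∀ i, β i = β' i) :
    Phi fstT sndT e β = Phi fstT sndT e β' := by
  have : β = β' := funext h
  rw [this]

/-- Relations pull back to zero. -/
lemma Phi_rel (hw : fstT ≫ π = sndT ≫ b) (r : Fin N → Γ(Y, ⊤))
    (hr : ∑ i, π.appTop (r i) * e i = 0) :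
    Phi fstT sndT e (fun i => b.appTop (r i)) = 0 := by
  unfold Phi
  have : ∑ i, sndT.appTop (b.appTop (r i)) * fstT.appTop (e i) =
      fstT.appTop (∑ i, π.appTop (r i) * e i) := by
    rw [map_sum]
    refine Finset.sum_congr rfl fun i _ => ?_
    rw [map_mul, appTop_comm hw]
  rw [this, hr, map_zero]

/-- Multiplication in terms of structure constants. -/
lemma Phi_mul (hw : fstT ≫ π = sndT ≫ b) (cc : Fin N → Fin N → Fin N → Γ(Y, ⊤))
    (hcc : ∀ i j, e i * e j = ∑ k, π.appTop (cc i j k) * e k) (β β' : Fin N → Γ(Y', ⊤)) :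
    Phi fstT sndT e β * Phi fstT sndT e β' =
      Phi fstT sndT e (fun k => ∑ i, ∑ j, β i * β' j * b.appTop (cc i j k)) := by
  have h1 : Phi fstT sndT e (fun k => ∑ i, ∑ j, β i * β' j * b.appTop (cc i j k)) =
      ∑ i, ∑ j, Phi fstT sndT e (fun k => β i * β' j * b.appTop (cc i j k)) := by
    rw [Phi_sum]
    refine Finset.sum_congr rfl fun i _ => ?_
    rw [Phi_sum]
  rw [h1]
  unfold Phi
  rw [Finset.sum_mul_sum]
  refine Finset.sum_congr rfl fun i _ => ?_
  refine Finset.sum_congr rfl fun j _ => ?_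
  have h2 : sndT.appTop (β i) * fstT.appTop (e i) * (sndT.appTop (β' j) * fstT.appTop (e j)) =
      sndT.appTop (β i) * sndT.appTop (β' j) * fstT.appTop (e i * e j) := by
    rw [map_mul]; ring
  rw [h2, hcc i j, map_sum, Finset.mul_sum]
  refine Finset.sum_congr rfl fun k _ => ?_
  rw [map_mul, map_mul, map_mul, appTop_comm hw]
  ring

/-- Multiplication by a fixed function in terms of structure constants. -/
lemma mul_Phi (hw : fstT ≫ π = sndT ≫ b) (g : Γ(T, ⊤)) (dd : Fin N → Fin N → Γ(Y, ⊤))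
    (hdd : ∀ i, g * e i = ∑ k, π.appTop (dd i k) * e k) (β : Fin N → Γ(Y', ⊤)) :
    fstT.appTop g * Phi fstT sndT e β =
      Phi fstT sndT e (fun k => ∑ i, β i * b.appTop (dd i k)) := by
  rw [Phi_sum]
  unfold Phi
  rw [Finset.mul_sum]
  refine Finset.sum_congr rfl fun i _ => ?_
  have h2 : fstT.appTop g * (sndT.appTop (β i) * fstT.appTop (e i)) =
      sndT.appTop (β i) * fstT.appTop (g * e i) := by
    rw [map_mul]; ring
  rw [h2, hdd i, map_sum, Finset.mul_sum]
  refine Finset.sum_congr rfl fun k _ => ?_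
  rw [map_mul, map_mul, appTop_comm hw]
  ring

/-- Compatibility with a further base change. -/
lemma appTop_Phi {Y'' T'' : Scheme.{u}} {fstT' : T'' ⟶ T} {sndT' : T'' ⟶ Y''} (τ : T'' ⟶ T')
    (c : Y'' ⟶ Y') (h1 : τ ≫ fstT = fstT') (h2 : τ ≫ sndT = sndT' ≫ c)
    (β : Fin N → Γ(Y', ⊤)) :
    τ.appTop (Phi fstT sndT e β) = Phi fstT' sndT' e (fun i => c.appTop (β i)) := by
  unfold Phi
  rw [map_sum]
  refine Finset.sum_congr rfl fun i _ => ?_
  rw [map_mul]
  have e1 : τ.appTop (sndT.appTop (β i)) = sndT'.appTop (c.appTop (β i)) := by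
    have : (τ ≫ sndT).appTop (β i) = (sndT' ≫ c).appTop (β i) := by rw [h2]
    rw [Scheme.Hom.comp_appTop, Scheme.Hom.comp_appTop] at this
    exact this
  have e2 : τ.appTop (fstT.appTop (e i)) = fstT'.appTop (e i) := by
    rw [← h1, Scheme.Hom.comp_appTop]; rfl
  rw [e1, e2]

/-- Idempotence from the parameter relations. -/
lemma Phi_isIdempotentElem (hw : fstT ≫ π = sndT ≫ b) (rel : Fin M → Fin N → Γ(Y, ⊤))
    (hrel0 : ∀ l, ∑ i, π.appTop (rel l i) * e i = 0)
    (cc : Fin N → Fin N → Fin N → Γ(Y, ⊤))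
    (hcc : ∀ i j, e i * e j = ∑ k, π.appTop (cc i j k) * e k)
    (β : Fin N → Γ(Y', ⊤)) (lam : Fin M → Γ(Y', ⊤))
    (h : ∀ k, ∑ i, ∑ j, β i * β j * b.appTop (cc i j k) =
      β k + ∑ l, lam l * b.appTop (rel l k)) :
    IsIdempotentElem (Phi fstT sndT e β) := by
  unfold IsIdempotentElem
  rw [Phi_mul e hw cc hcc, Phi_congr e h]
  have : (fun k => β k + ∑ l, lam l * b.appTop (rel l k)) =
      β + fun k => ∑ l, lam l * b.appTop (rel l k) := rfl
  rw [this, Phi_add, Phi_sum]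
  have hz : ∀ l ∈ Finset.univ, Phi fstT sndT e (fun k => lam l * b.appTop (rel l k)) = 0 := by
    intro l _
    rw [Phi_smul, Phi_rel e hw (rel l) (hrel0 l), mul_zero]
  rw [Finset.sum_eq_zero hz, add_zero]

/-- Membership in the ideal generated by the `ι t` from the parameter relations. -/
lemma Phi_eq_sum_mul (hw : fstT ≫ π = sndT ≫ b) (rel : Fin M → Fin N → Γ(Y, ⊤))
    (hrel0 : ∀ l, ∑ i, π.appTop (rel l i) * e i = 0)
    (ι : Fin K → Γ(T, ⊤)) (dd : Fin K → Fin N → Fin N → Γ(Y, ⊤))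
    (hdd : ∀ t i, ι t * e i = ∑ k, π.appTop (dd t i k) * e k)
    (β : Fin N → Γ(Y', ⊤)) (m : Fin K → Fin N → Γ(Y', ⊤)) (lam : Fin M → Γ(Y', ⊤))
    (h : ∀ k, β k = (∑ t, ∑ i, m t i * b.appTop (dd t i k)) +
      ∑ l, lam l * b.appTop (rel l k)) :
    Phi fstT sndT e β = ∑ t, fstT.appTop (ι t) * Phi fstT sndT e (m t) := by
  rw [Phi_congr e h]
  have : (fun k => (∑ t, ∑ i, m t i * b.appTop (dd t i k)) +
      ∑ l, lam l * b.appTop (rel l k)) =
      (fun k => ∑ t, ∑ i, m t i * b.appTop (dd t i k)) +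
        fun k => ∑ l, lam l * b.appTop (rel l k) := rfl
  rw [this, Phi_add, Phi_sum, Phi_sum]
  have hz : ∀ l ∈ Finset.univ, Phi fstT sndT e (fun k => lam l * b.appTop (rel l k)) = 0 := by
    intro l _
    rw [Phi_smul, Phi_rel e hw (rel l) (hrel0 l), mul_zero]
  rw [Finset.sum_eq_zero hz, add_zero]
  refine Finset.sum_congr rfl fun t _ => ?_
  rw [mul_Phi e hw (ι t) (dd t) (hdd t)]

end Groth.Agent.H5.FO
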