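import Mathlib

/-!
# Universal finite open subschemes of a quasi-finite morphism, part C (helper5)

Geometric lemmas: the open immersion induced on base changes, idempotents and clopen subsets.
-/

set_option autoImplicit false
universe u
open CategoryTheory CategoryTheory.Limits AlgebraicGeometry

namespace Groth.Agent.H5.FO

section JLift

variable {X Y T : Scheme.{u}} {f : X ⟶ Y} {j₀ : X ⟶ T} {π : T ⟶ Y} (fac : j₀ ≫ π = f)
  {Y' T' Z' : Scheme.{u}} {b : Y' ⟶ Y} {fstT : T' ⟶ T} {sndT : T' ⟶ Y'}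
  (hT : IsPullback fstT sndT π b) {fstZ : Z' ⟶ X} {sndZ : Z' ⟶ Y'}
  (hZ : IsPullback fstZ sndZ f b)

/-- The map between base changes induced by `j₀`. -/
noncomputable def jLift : Z' ⟶ T' :=
  hT.lift (fstZ ≫ j₀) sndZ (by rw [Category.assoc, fac, hZ.w])

@[reassoc]
lemma jLift_fst : jLift fac hT hZ ≫ fstT = fstZ ≫ j₀ := hT.lift_fst _ _ _

@[reassoc]
lemma jLift_snd : jLift fac hT hZ ≫ sndT = sndZ := hT.lift_snd _ _ _

lemma isPullback_jLift : IsPullback fstZ (jLift fac hT hZ) j₀ fstT := by
  refine IsPullback.of_bot ?_ (jLift_fst fac hT hZ).symm hT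
  rw [jLift_snd, fac]; exact hZ

instance [IsOpenImmersion j₀] : IsOpenImmersion (jLift fac hT hZ) :=
  MorphismProperty.of_isPullback (P := @IsOpenImmersion) (isPullback_jLift fac hT hZ)
    inferInstance

lemma opensRange_jLift [IsOpenImmersion j₀] :
    (jLift fac hT hZ).opensRange = fstT ⁻¹ᵁ j₀.opensRange := by
  ext x
  constructor
  · rintro ⟨z, rfl⟩
    refine ⟨fstZ z, ?_⟩
    rw [← Scheme.Hom.comp_apply, ← Scheme.Hom.comp_apply, jLift_fst]
  · rintro ⟨w, hw⟩
    obtain ⟨z, -, hz⟩ := Scheme.exists_preimage_of_isPullback (isPullback_jLift fac hT hZ) w x hw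
    exact ⟨z, hz⟩

end JLift

section Idem

/-- The nonvanishing locus of an idempotent is closed. -/
lemma isClosed_basicOpen_of_isIdempotentElem {X : Scheme.{u}} {e : Γ(X, ⊤)}
    (he : IsIdempotentElem e) : IsClosed (X.basicOpen e : Set X) := by
  have : (X.basicOpen e : Set X)ᶜ = (X.basicOpen (1 - e) : Set X) := by
    ext x
    simp only [Set.mem_compl_iff, SetLike.mem_coe, Scheme.mem_basicOpen_top]
    have h1 : X.presheaf.germ ⊤ x trivial (1 - e) = 1 - X.presheaf.germ ⊤ x trivial e := by
      rw [map_sub, map_one]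
    have hidem : IsIdempotentElem (X.presheaf.germ ⊤ x trivial e) := by
      unfold IsIdempotentElem
      rw [← map_mul, he.eq]
    rw [h1]
    constructor
    · intro hnu
      exact IsLocalRing.isUnit_one_sub_self_of_mem_nonunits _ hnu
    · intro hu hu'
      -- both `g` and `1 - g` are units and `g * (1 - g) = 0`
      have hz : X.presheaf.germ ⊤ x trivial e * (1 - X.presheaf.germ ⊤ x trivial e) = 0 := by
        rw [mul_sub, mul_one, hidem.eq, sub_self]
      have := (hu'.mul hu)
      rw [hz] at this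
      exact not_isUnit_zero this
  rw [← isOpen_compl_iff, this]
  exact (X.basicOpen (1 - e)).2

/-- The nonvanishing locus of a combination lies in the union of the nonvanishing loci. -/
lemma basicOpen_sum_mul_le {X : Scheme.{u}} {K : ℕ} (g μ : Fin K → Γ(X, ⊤)) :
    X.basicOpen (∑ t, g t * μ t) ≤ ⨆ t, X.basicOpen (g t) := by
  intro x hx
  rw [Scheme.mem_basicOpen_top] at hx
  by_contra hcon
  simp only [TopologicalSpace.Opens.mem_iSup, not_exists, Scheme.mem_basicOpen_top] at hcon
  have hmem : X.presheaf.germ ⊤ x trivial (∑ t, g t * μ t) ∈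
      IsLocalRing.maximalIdeal (X.presheaf.stalk x) := by
    rw [map_sum]
    refine Ideal.sum_mem _ fun t _ => ?_
    rw [map_mul]
    exact Ideal.mul_mem_right _ _ ((IsLocalRing.mem_maximalIdeal _).mpr (hcon t))
  exact (IsLocalRing.mem_maximalIdeal _).mp hmem hx

/-- Ring level: an idempotent whose nonvanishing locus is covered by the `D(g t)` lies in the ideal
generated by the `g t`. -/
lemma mem_span_of_isIdempotentElem {R : Type*} [CommRing R] {e : R} (he : IsIdempotentElem e)
    {K : ℕ} (g : Fin K → R)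
    (h : ∀ p : PrimeSpectrum R, e ∉ p.asIdeal → ∃ t, g t ∉ p.asIdeal) :
    e ∈ Ideal.span (Set.range g) := by
  have h1 : e ∈ (Ideal.span (Set.range g)).radical := by
    rw [← PrimeSpectrum.vanishingIdeal_zeroLocus_eq_radical, PrimeSpectrum.mem_vanishingIdeal]
    intro p hp
    by_contra hep
    obtain ⟨t, ht⟩ := h p hep
    rw [PrimeSpectrum.mem_zeroLocus] at hp
    exact ht (hp (Ideal.subset_span ⟨t, rfl⟩))
  obtain ⟨n, hn⟩ := h1
  rcases Nat.eq_zero_or_pos n with rfl | hpos
  · rw [pow_zero] at hn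
    rw [(Ideal.eq_top_iff_one _).mpr hn]; trivial
  · obtain ⟨k, rfl⟩ : ∃ k, n = k + 1 := ⟨n - 1, by omega⟩
    rwa [he.pow_succ_eq] at hn

end Idem

end Groth.Agent.H5.FO
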