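import Groth.Agent.Lib.Helper5.FO.FoA
import Groth.Agent.Lib.Helper5.FO.FoB
import Groth.Agent.Lib.Helper5.FO.FoC
import Mathlib

/-!
# Universal finite open subschemes of a quasi-finite morphism, part D (helper5)
-/

set_option autoImplicit false
universe u
open CategoryTheory CategoryTheory.Limits AlgebraicGeometry TensorProduct

namespace Groth.Agent.H5.FO

section Geometry

/-- On an affine scheme an idempotent whose nonvanishing locus is covered by `D(g t)` is a
combination of the `g t`. -/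
lemma exists_eq_sum_mul_of_basicOpen_le {Z : Scheme.{u}} [IsAffine Z] {e : Γ(Z, ⊤)}
    (he : IsIdempotentElem e) {K : ℕ} (g : Fin K → Γ(Z, ⊤))
    (h : Z.basicOpen e ≤ ⨆ t, Z.basicOpen (g t)) : ∃ μ : Fin K → Γ(Z, ⊤), e = ∑ t, g t * μ t := by
  have hmem : ∀ (r : Γ(Z, ⊤)) (x : Z), x ∈ Z.basicOpen r ↔ r ∉ (Z.toSpecΓ x).asIdeal := by
    intro r x
    rw [← Scheme.toSpecΓ_preimage_basicOpen]
    rfl
  have hsurj : Function.Surjective Z.toSpecΓ :=
    (Scheme.homeoOfIso Z.isoSpec).surjective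
  have hspan := mem_span_of_isIdempotentElem he g (fun p hp => by
    obtain ⟨x, rfl⟩ := hsurj p
    have hx : x ∈ Z.basicOpen e := (hmem e x).mpr hp
    have := h hx
    simp only [TopologicalSpace.Opens.mem_iSup] at this
    obtain ⟨t, ht⟩ := this
    exact ⟨t, (hmem _ x).mp ht⟩)
  obtain ⟨c, hc⟩ := Ideal.mem_span_range_iff_exists_fun.mp hspan
  exact ⟨c, by rw [← hc]; exact Finset.sum_congr rfl fun t _ => mul_comm _ _⟩

/-- A clopen subset of an affine scheme is the nonvanishing locus of an idempotent. -/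
lemma exists_idempotent_basicOpen_eq {Z : Scheme.{u}} [IsAffine Z] (S : Z.Opens)
    (hS : IsClosed (S : Set Z)) : ∃ e : Γ(Z, ⊤), IsIdempotentElem e ∧ Z.basicOpen e = S := by
  let S' : Set (PrimeSpectrum Γ(Z, ⊤)) := (Z.isoSpec.inv) ⁻¹' (S : Set Z)
  have hS' : IsClopen S' :=
    ⟨hS.preimage Z.isoSpec.inv.continuous, S.2.preimage Z.isoSpec.inv.continuous⟩
  obtain ⟨e, he, hSe⟩ := PrimeSpectrum.isClopen_iff.mp hS'
  refine ⟨e, he, ?_⟩
  ext x
  rw [← Scheme.toSpecΓ_preimage_basicOpen]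
  have h1 : x ∈ S ↔ Z.toSpecΓ x ∈ S' := by
    change x ∈ S ↔ Z.isoSpec.inv (Z.isoSpec.hom x) ∈ S
    rw [← Scheme.Hom.comp_apply, Iso.hom_inv_id]
    rfl
  rw [SetLike.mem_coe, SetLike.mem_coe, h1, hSe]
  rfl

/-- A closed open subset inside an open subscheme `Z'` of a finite `Y'`-scheme `T'` gives an open
subscheme of `Z'` finite over `Y'`. -/
lemma isFinite_of_isClosed_le_opensRange {Z' T' Y' : Scheme.{u}} (j' : Z' ⟶ T')
    [IsOpenImmersion j'] (sndT : T' ⟶ Y') [IsFinite sndT] (W : T'.Opens)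
    (hWc : IsClosed (W : Set T')) (hW : W ≤ j'.opensRange) :
    IsFinite ((j' ⁻¹ᵁ W).ι ≫ j' ≫ sndT) := by
  have hr : Set.range ((j' ⁻¹ᵁ W).ι ≫ j') = (W : Set T') := by
    rw [Scheme.Hom.comp_base, TopCat.coe_comp, Set.range_comp, Scheme.Opens.range_ι]
    change j' '' (j' ⁻¹' (W : Set T')) = W
    rw [Set.image_preimage_eq_inter_range]
    exact Set.inter_eq_left.mpr hW
  haveI : IsClosedImmersion ((j' ⁻¹ᵁ W).ι ≫ j') :=
    IsClosedImmersion.of_isPreimmersion _ (by rw [hr]; exact hWc)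
  rw [← Category.assoc]
  infer_instance

/-- An open subscheme of `Z' ⊆ T'` finite over `Y'` is closed in the separated `Y'`-scheme `T'`. -/
lemma isClosed_image_of_isFinite {Z' T' Y' : Scheme.{u}} (j' : Z' ⟶ T') [IsOpenImmersion j']
    (sndT : T' ⟶ Y') [IsSeparated sndT] (U' : Z'.Opens) (hfin : IsFinite (U'.ι ≫ j' ≫ sndT)) :
    IsClosed (j' ''ᵁ U' : Set T') := by
  haveI : UniversallyClosed ((U'.ι ≫ j') ≫ sndT) := by
    rw [Category.assoc]; infer_instance
  haveI : UniversallyClosed (U'.ι ≫ j') := UniversallyClosed.of_comp_of_isSeparated _ sndT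
  have hr : Set.range (U'.ι ≫ j') = (j' ''ᵁ U' : Set T') := by
    rw [Scheme.Hom.comp_base, TopCat.coe_comp, Set.range_comp, Scheme.Opens.range_ι]
    rfl
  rw [← hr]
  exact (U'.ι ≫ j').isClosedMap.isClosed_range

/-- A compact open of an affine scheme is a finite union of basic opens. -/
lemma exists_fin_iSup_basicOpen {T : Scheme.{u}} [IsAffine T] (U : T.Opens)
    (hU : IsCompact (U : Set T)) : ∃ (K : ℕ) (ι : Fin K → Γ(T, ⊤)), U = ⨆ t, T.basicOpen (ι t) := by
  obtain ⟨s, hs, hUs⟩ :=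
    (isCompact_and_isOpen_iff_finite_and_eq_biUnion_basicOpen (X := T)).mp ⟨hU, U.2⟩
  refine ⟨hs.toFinset.card, fun t => (hs.toFinset.equivFin.symm t).1, ?_⟩
  ext x
  rw [SetLike.mem_coe, ← SetLike.mem_coe, hUs]
  simp only [Set.mem_iUnion, SetLike.mem_coe, TopologicalSpace.Opens.mem_iSup, exists_prop]
  constructor
  · rintro ⟨i, hi, hx⟩
    refine ⟨hs.toFinset.equivFin ⟨i, hs.mem_toFinset.mpr hi⟩, ?_⟩
    rw [Equiv.symm_apply_apply]
    exact hx
  · rintro ⟨t, hx⟩
    exact ⟨_, hs.mem_toFinset.mp (hs.toFinset.equivFin.symm t).2, hx⟩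

end Geometry

section Pushout

/-- In a pushout of commutative rings, a vanishing combination vanishes in the tensor product. -/
lemma tmul_sum_eq_zero_of_isPushout {R A' B X : CommRingCat.{u}} {ψ : R ⟶ A'} {φ : R ⟶ B}
    {b : A' ⟶ X} {a : B ⟶ X} (H : IsPushout ψ φ b a) [Algebra R A'] [Algebra R B]
    (hψ : algebraMap R A' = ψ.hom) (hφ : algebraMap R B = φ.hom) {N : ℕ} (β : Fin N → A')
    (e : Fin N → B) (h0 : ∑ i, b (β i) * a (e i) = 0) :
    (∑ i, β i ⊗ₜ[R] e i : A' ⊗[R] B) = 0 := by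
  have H' : IsPushout (CommRingCat.ofHom (algebraMap R A')) (CommRingCat.ofHom (algebraMap R B))
      b a := by
    rw [hψ, hφ]; exact H
  let iso := (CommRingCat.isPushout_tensorProduct R A' B).isoIsPushout _ _ H'
  have e1 := IsPushout.inl_isoIsPushout_hom _ _ (CommRingCat.isPushout_tensorProduct R A' B) H'
  have e2 := IsPushout.inr_isoIsPushout_hom _ _ (CommRingCat.isPushout_tensorProduct R A' B) H'
  have h1 : ∀ x : A', iso.hom (x ⊗ₜ[R] (1 : B)) = b x := fun x => by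
    have := congrArg (fun m : A' ⟶ X => m x) e1
    exact this
  have h2 : ∀ y : B, iso.hom ((1 : A') ⊗ₜ[R] y) = a y := fun y => by
    have := congrArg (fun m : B ⟶ X => m y) e2
    exact this
  have hinj : Function.Injective iso.hom := (ConcreteCategory.bijective_of_isIso iso.hom).1
  apply hinj
  rw [map_zero, map_sum, ← h0]
  refine Finset.sum_congr rfl fun i _ => ?_
  have : β i ⊗ₜ[R] e i = (β i ⊗ₜ[R] (1 : B)) * ((1 : A') ⊗ₜ[R] e i) := by
    rw [Algebra.TensorProduct.tmul_mul_tmul, mul_one, one_mul]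
  rw [this, map_mul, h1, h2]

end Pushout

end Groth.Agent.H5.FO
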