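import Groth.Agent.Lib.Helper5.FO.FoD
import Mathlib

/-!
# Universal finite open subschemes of a quasi-finite morphism, part E (helper5)

The parameter algebra and its points.
-/

set_option autoImplicit false
universe u
open CategoryTheory CategoryTheory.Limits AlgebraicGeometry TensorProduct

namespace Groth.Agent.H5.FO

/-- The algebraic data attached to a finite finitely presented `π : T ⟶ Y` and an open of `T`. -/
structure Data {Y T : Scheme.{u}} (π : T ⟶ Y) where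
  N : ℕ
  M : ℕ
  K : ℕ
  e : Fin N → Γ(T, ⊤)
  rel : Fin M → Fin N → Γ(Y, ⊤)
  ι : Fin K → Γ(T, ⊤)
  cc : Fin N → Fin N → Fin N → Γ(Y, ⊤)
  dd : Fin K → Fin N → Fin N → Γ(Y, ⊤)
  he : ∀ x : Γ(T, ⊤), ∃ r : Fin N → Γ(Y, ⊤), x = ∑ i, π.appTop (r i) * e i
  hrel0 : ∀ l, ∑ i, π.appTop (rel l i) * e i = 0
  hcc : ∀ i j, e i * e j = ∑ k, π.appTop (cc i j k) * e k
  hdd : ∀ t i, ι t * e i = ∑ k, π.appTop (dd t i k) * e k
  hker : ∀ {Y' T' : Scheme.{u}} [IsAffine Y'] {b : Y' ⟶ Y} {fstT : T' ⟶ T} {sndT : T' ⟶ Y'},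
    IsPullback fstT sndT π b → ∀ β : Fin N → Γ(Y', ⊤), Phi fstT sndT e β = 0 →
    ∃ μ : Fin M → Γ(Y', ⊤), ∀ i, β i = ∑ l, μ l * b.appTop (rel l i)

/-- Existence of the data. -/
lemma exists_data {X Y T : Scheme.{u}} [IsAffine X] [IsAffine Y] [IsAffine T] (j₀ : X ⟶ T)
    [IsOpenImmersion j₀] (π : T ⟶ Y) [IsFinite π] [LocallyOfFinitePresentation π] :
    ∃ d : Data π, j₀.opensRange = ⨆ t, T.basicOpen (d.ι t) := by
  letI : Algebra Γ(Y, ⊤) Γ(T, ⊤) := π.appTop.hom.toAlgebra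
  haveI : Module.Finite Γ(Y, ⊤) Γ(T, ⊤) :=
    ((HasAffineProperty.iff_of_isAffine (P := @IsFinite)).mp ‹IsFinite π›).2
  haveI : Algebra.FinitePresentation Γ(Y, ⊤) Γ(T, ⊤) :=
    (HasRingHomProperty.iff_of_isAffine (P := @LocallyOfFinitePresentation)).mp ‹_›
  obtain ⟨N, M, e, rel, he, hrel0, hbc⟩ := exists_presentation Γ(Y, ⊤) Γ(T, ⊤)
  have hsm : ∀ (r : Γ(Y, ⊤)) (x : Γ(T, ⊤)), r • x = π.appTop r * x := fun r x => by
    rw [Algebra.smul_def]; rfl
  have he' : ∀ x : Γ(T, ⊤), ∃ r : Fin N → Γ(Y, ⊤), x = ∑ i, π.appTop (r i) * e i := by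
    intro x
    obtain ⟨r, hr⟩ := he x
    exact ⟨r, hr.trans (Finset.sum_congr rfl fun i _ => hsm _ _)⟩
  have hrel0' : ∀ l, ∑ i, π.appTop (rel l i) * e i = 0 := fun l => by
    rw [← hrel0 l]
    exact (Finset.sum_congr rfl fun i _ => hsm _ _).symm
  obtain ⟨K, ι, hι⟩ := exists_fin_iSup_basicOpen j₀.opensRange (isCompact_range j₀.continuous)
  choose cc hcc using fun i j => he' (e i * e j)
  choose dd hdd using fun t i => he' (ι t * e i)
  refine ⟨⟨N, M, K, e, rel, ι, cc, dd, he', hrel0', hcc, hdd, ?_⟩, hι⟩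
  intro Y' T' _ b fstT sndT hT β hβ
  have hpo := isPushout_appTop_of_isPullback hT
  letI : Algebra Γ(Y, ⊤) Γ(Y', ⊤) := b.appTop.hom.toAlgebra
  have h0 := tmul_sum_eq_zero_of_isPushout (R := Γ(Y, ⊤)) (A' := Γ(Y', ⊤)) (B := Γ(T, ⊤)) hpo.flip
    rfl rfl β e hβ
  exact hbc Γ(Y', ⊤) β h0


namespace Data

variable {Y T : Scheme.{u}} {π : T ⟶ Y} (d : Data π)

/-- The variables of the parameter algebra. -/
abbrev σ : Type := Fin d.N ⊕ (Fin d.K × Fin d.N) ⊕ Fin d.M ⊕ Fin d.M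

/-- The index set of the relations. -/
abbrev ρ : Type := Fin d.N ⊕ Fin d.N

open MvPolynomial in
/-- The relations: idempotence and membership in the ideal of the `ι t`. -/
noncomputable def rels : d.ρ → MvPolynomial d.σ Γ(Y, ⊤)
  | Sum.inl k => (∑ i, ∑ j, X (Sum.inl i) * X (Sum.inl j) * C (d.cc i j k)) - X (Sum.inl k) -
      ∑ l, X (Sum.inr (Sum.inr (Sum.inl l))) * C (d.rel l k)
  | Sum.inr k => X (Sum.inl k) - (∑ t, ∑ i, X (Sum.inr (Sum.inl (t, i))) * C (d.dd t i k)) -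
      ∑ l, X (Sum.inr (Sum.inr (Sum.inr l))) * C (d.rel l k)

/-- The parameter algebra. -/
abbrev Alg : Type u := QAlg Γ(Y, ⊤) d.rels

/-- A point of the parameter space with values in `R`. -/
structure Pt (R : Type u) [CommRing R] (ψ : Γ(Y, ⊤) →+* R) where
  β : Fin d.N → R
  m : Fin d.K → Fin d.N → R
  lam : Fin d.M → R
  lam' : Fin d.M → R
  h1 : ∀ k, ∑ i, ∑ j, β i * β j * ψ (d.cc i j k) = β k + ∑ l, lam l * ψ (d.rel l k)
  h2 : ∀ k, β k = (∑ t, ∑ i, m t i * ψ (d.dd t i k)) + ∑ l, lam' l * ψ (d.rel l k)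

variable {d}

/-- The point defined by a ring homomorphism out of the parameter algebra. -/
noncomputable def Pt.ofHom {R : Type u} [CommRing R] {ψ : Γ(Y, ⊤) →+* R} (χ : d.Alg →+* R)
    (hχ : ∀ x, χ (algebraMap Γ(Y, ⊤) d.Alg x) = ψ x) : d.Pt R ψ where
  β i := χ (QAlg.gen (Sum.inl i))
  m t i := χ (QAlg.gen (Sum.inr (Sum.inl (t, i))))
  lam l := χ (QAlg.gen (Sum.inr (Sum.inr (Sum.inl l))))
  lam' l := χ (QAlg.gen (Sum.inr (Sum.inr (Sum.inr l))))
  h1 k := by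
    have h := congrArg χ (QAlg.mk_rel (rels := d.rels) (Sum.inl k))
    simp only [rels, map_sub, map_sum, map_mul, map_zero] at h
    have hC : ∀ x : Γ(Y, ⊤), χ ((Ideal.Quotient.mk (Ideal.span (Set.range d.rels)))
        (MvPolynomial.C x)) = ψ x := fun x => hχ x
    simp only [hC] at h
    rw [sub_sub, sub_eq_zero] at h
    exact h
  h2 k := by
    have h := congrArg χ (QAlg.mk_rel (rels := d.rels) (Sum.inr k))
    simp only [rels, map_sub, map_sum, map_mul, map_zero] at h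
    have hC : ∀ x : Γ(Y, ⊤), χ ((Ideal.Quotient.mk (Ideal.span (Set.range d.rels)))
        (MvPolynomial.C x)) = ψ x := fun x => hχ x
    simp only [hC] at h
    rw [sub_sub, sub_eq_zero] at h
    exact h

/-- The values of the variables at a point. -/
def Pt.vals {R : Type u} [CommRing R] {ψ : Γ(Y, ⊤) →+* R} (p : d.Pt R ψ) : d.σ → R :=
  Sum.elim p.β (Sum.elim (fun ti => p.m ti.1 ti.2) (Sum.elim p.lam p.lam'))

/-- The algebra homomorphism defined by a point. -/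
noncomputable def Pt.toHom {R : Type u} [CommRing R] [Algebra Γ(Y, ⊤) R]
    (p : d.Pt R (algebraMap Γ(Y, ⊤) R)) : d.Alg →ₐ[Γ(Y, ⊤)] R :=
  QAlg.lift p.vals (by
    rintro (k | k)
    · simp only [rels, map_sub, map_sum, map_mul, MvPolynomial.aeval_X, MvPolynomial.aeval_C,
        Pt.vals, Sum.elim_inl, Sum.elim_inr]
      rw [sub_sub, sub_eq_zero]
      exact p.h1 k
    · simp only [rels, map_sub, map_sum, map_mul, MvPolynomial.aeval_X, MvPolynomial.aeval_C,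
        Pt.vals, Sum.elim_inl, Sum.elim_inr]
      rw [sub_sub, sub_eq_zero]
      exact p.h2 k)

lemma Pt.toHom_gen {R : Type u} [CommRing R] [Algebra Γ(Y, ⊤) R]
    (p : d.Pt R (algebraMap Γ(Y, ⊤) R)) (i : Fin d.N) :
    p.toHom (QAlg.gen (Sum.inl i)) = p.β i := by
  rw [Pt.toHom, QAlg.lift_gen]; rfl

end Data

end Groth.Agent.H5.FO
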