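import Groth.Agent.Lib.Helper5.FO.FoE
import Groth.Agent.Lib.Helper5.UO.UoA
import Mathlib

/-!
# Universal finite open subschemes of a quasi-finite morphism, part F (helper5)

Points of the parameter space from idempotents.
-/

set_option autoImplicit false
universe u
open CategoryTheory CategoryTheory.Limits AlgebraicGeometry TensorProduct

namespace Groth.Agent.H5.FO

variable {Y T : Scheme.{u}} {π : T ⟶ Y}

lemma Phi_sub_eq_zero {Y' T' : Scheme.{u}} {fstT : T' ⟶ T} {sndT : T' ⟶ Y'} {N : ℕ}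
    (e : Fin N → Γ(T, ⊤)) {β β' : Fin N → Γ(Y', ⊤)}
    (h : Phi fstT sndT e β = Phi fstT sndT e β') : Phi fstT sndT e (fun i => β i - β' i) = 0 := by
  have h1 : Phi fstT sndT e ((fun i => β i - β' i) + β') =
      Phi fstT sndT e (fun i => β i - β' i) + Phi fstT sndT e β' := Phi_add e _ _
  have h2 : ((fun i => β i - β' i) + β') = β := by
    ext i; simp
  rw [h2, h] at h1
  exact (add_eq_right.mp h1.symm)

namespace Data

variable (d : Data π) {Y' T' : Scheme.{u}} {b : Y' ⟶ Y} {fstT : T' ⟶ T} {sndT : T' ⟶ Y'}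

/-- Every function on an affine base change is a combination of the generators. -/
lemma exists_Phi_eq [IsAffine T] [IsAffine Y] [IsAffine Y'] (hT : IsPullback fstT sndT π b)
    (x : Γ(T', ⊤)) : ∃ β : Fin d.N → Γ(Y', ⊤), Phi fstT sndT d.e β = x := by
  have hpo := isPushout_appTop_of_isPullback hT
  have hcl := CommRingCat.closure_range_union_range_eq_top_of_isPushout hpo
  obtain ⟨β, hβ⟩ := Groth.Agent.H5.UO.exists_sum_of_closure π.appTop.hom b.appTop.hom
    fstT.appTop.hom sndT.appTop.hom (by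
      have := hpo.w
      rw [← CommRingCat.hom_comp, ← CommRingCat.hom_comp, this]) hcl d.e d.he x
  exact ⟨β, hβ.symm⟩

/-- An idempotent on an affine base change whose nonvanishing locus lies over the open defines a
point of the parameter space. -/
lemma exists_pt [IsAffine T] [IsAffine Y] [IsAffine Y'] [IsAffine T']
    (hT : IsPullback fstT sndT π b) (e' : Γ(T', ⊤)) (he' : IsIdempotentElem e')
    (hle : T'.basicOpen e' ≤ ⨆ t, T'.basicOpen (fstT.appTop (d.ι t))) :
    ∃ p : d.Pt Γ(Y', ⊤) b.appTop.hom, Phi fstT sndT d.e p.β = e' := by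
  obtain ⟨β, hβ⟩ := d.exists_Phi_eq hT e'
  -- idempotence
  have h1 : Phi fstT sndT d.e (fun k => ∑ i, ∑ j, β i * β j * b.appTop (d.cc i j k)) =
      Phi fstT sndT d.e β := by
    rw [← Phi_mul d.e hT.w d.cc d.hcc, hβ, he'.eq]
  obtain ⟨lam, hlam⟩ := d.hker hT _ (Phi_sub_eq_zero d.e h1)
  -- membership in the ideal
  obtain ⟨μ', hμ'⟩ := exists_eq_sum_mul_of_basicOpen_le he' (fun t => fstT.appTop (d.ι t)) hle
  choose m hm using fun t => d.exists_Phi_eq hT (μ' t)
  have h2 : Phi fstT sndT d.e β =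
      Phi fstT sndT d.e (fun k => ∑ t, ∑ i, m t i * b.appTop (d.dd t i k)) := by
    rw [hβ, hμ', Phi_sum]
    refine Finset.sum_congr rfl fun t _ => ?_
    rw [← hm t, mul_Phi d.e hT.w (d.ι t) (d.dd t) (d.hdd t)]
  obtain ⟨lam', hlam'⟩ := d.hker hT _ (Phi_sub_eq_zero d.e h2)
  refine ⟨⟨β, m, lam, lam', fun k => ?_, fun k => ?_⟩, hβ⟩
  · have := hlam k
    rw [sub_eq_iff_eq_add] at this
    rw [this, add_comm]
  · have := hlam' k
    rw [sub_eq_iff_eq_add] at this
    rw [this, add_comm]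

end Data

end Groth.Agent.H5.FO
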