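import Groth.Agent.Lib.Helper5.FO.FoF
import Groth.Agent.Lib.Helper5.NApprox.ZmtB
import Mathlib

/-!
# Universal finite open subschemes of a quasi-finite morphism, part G (helper5)
-/

set_option autoImplicit false
universe u
open CategoryTheory CategoryTheory.Limits AlgebraicGeometry TensorProduct

namespace Groth.Agent.H5.FO

open Groth.Agent.H5.NApprox

lemma isoSpec_inv_appTop (Y : Scheme.{u}) [IsAffine Y] :
    Y.isoSpec.inv.appTop = (Scheme.ΓSpecIso Γ(Y, ⊤)).inv := by
  have h1 : Y.isoSpec.inv.appTop ≫ Y.isoSpec.hom.appTop = 𝟙 _ := by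
    rw [← Scheme.Hom.comp_appTop, Iso.hom_inv_id]; rfl
  have h2 : Y.isoSpec.hom.appTop = (Scheme.ΓSpecIso Γ(Y, ⊤)).hom := by
    rw [Scheme.isoSpec_hom, Scheme.toSpecΓ_appTop]
  rw [h2] at h1
  rw [← Category.comp_id (Y.isoSpec.inv.appTop), ← (Scheme.ΓSpecIso Γ(Y, ⊤)).hom_inv_id,
    ← Category.assoc, h1, Category.id_comp]

theorem exists_universal_finite_open {X Y : Scheme.{u}} (f : X ⟶ Y) [IsAffine X] [IsAffine Y]
    [LocallyQuasiFinite f] [LocallyOfFinitePresentation f] :
    ∃ (Yu : Scheme.{u}) (a : Yu ⟶ Y) (Uu : (pullback f a).Opens),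
      LocallyOfFinitePresentation a ∧ QuasiCompact a ∧ QuasiSeparated a ∧
      IsFinite (Uu.ι ≫ pullback.snd f a) ∧
      ∀ (Y' : Scheme.{u}) (b : Y' ⟶ Y) (U' : (pullback f b).Opens), IsAffine Y' →
        IsFinite (U'.ι ≫ pullback.snd f b) →
        ∃ (c : Y' ⟶ Yu) (hc : c ≫ a = b),
          (pullback.map f b f a (𝟙 X) c (𝟙 Y)
            ((Category.comp_id f).trans (Category.id_comp f).symm)
            ((Category.comp_id b).trans hc.symm)) ⁻¹ᵁ Uu = U' := by
  obtain ⟨T, j₀, π, hj₀, -, hπfin, hπfp, fac⟩ := exists_openImmersion_finite_fp f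
  haveI : IsAffine T := isAffine_of_isAffineHom π
  obtain ⟨d, hι⟩ := exists_data j₀ π
  -- the parameter scheme
  let Cc : CommRingCat.{u} := CommRingCat.of d.Alg
  let φ : Γ(Y, ⊤) ⟶ Cc := CommRingCat.ofHom (algebraMap Γ(Y, ⊤) d.Alg)
  let a : Spec Cc ⟶ Y := Spec.map φ ≫ Y.isoSpec.inv
  let γ : Cc ⟶ Γ(Spec Cc, ⊤) := (Scheme.ΓSpecIso Cc).inv
  have ha : a.appTop = φ ≫ γ := by
    change (Spec.map φ ≫ Y.isoSpec.inv).appTop = _
    rw [Scheme.Hom.comp_appTop, isoSpec_inv_appTop, ← Scheme.ΓSpecIso_inv_naturality]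
  have hafp : LocallyOfFinitePresentation a := by
    haveI : LocallyOfFinitePresentation (Spec.map φ) := by
      rw [HasRingHomProperty.Spec_iff (P := @LocallyOfFinitePresentation)]
      exact (RingHom.finitePresentation_algebraMap (A := Γ(Y, ⊤)) (B := d.Alg)).mpr inferInstance
    infer_instance
  -- the tautological point
  let pu : d.Pt Γ(Spec Cc, ⊤) a.appTop.hom := Data.Pt.ofHom γ.hom (fun x => by rw [ha]; rfl)
  have hTu : IsPullback (pullback.fst π a) (pullback.snd π a) π a := IsPullback.of_hasPullback _ _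
  let eu : Γ(pullback π a, ⊤) := Phi (pullback.fst π a) (pullback.snd π a) d.e pu.β
  have heu : IsIdempotentElem eu :=
    Phi_isIdempotentElem d.e hTu.w d.rel d.hrel0 d.cc d.hcc pu.β pu.lam pu.h1
  have heu2 : eu = ∑ t, (pullback.fst π a).appTop (d.ι t) *
      Phi (pullback.fst π a) (pullback.snd π a) d.e (pu.m t) :=
    Phi_eq_sum_mul d.e hTu.w d.rel d.hrel0 d.ι d.dd d.hdd pu.β pu.m pu.lam' pu.h2
  let ju : pullback f a ⟶ pullback π a := jLift fac hTu (IsPullback.of_hasPullback f a)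
  have hrange : ∀ {Y' T' Z' : Scheme.{u}} {b : Y' ⟶ Y} {fstT : T' ⟶ T} {sndT : T' ⟶ Y'}
      (hT : IsPullback fstT sndT π b) {fstZ : Z' ⟶ X} {sndZ : Z' ⟶ Y'}
      (hZ : IsPullback fstZ sndZ f b),
      (jLift fac hT hZ).opensRange = ⨆ t, T'.basicOpen (fstT.appTop (d.ι t)) := by
    intro Y' T' Z' b fstT sndT hT fstZ sndZ hZ
    rw [opensRange_jLift, hι, Scheme.Hom.preimage_iSup]
    congr 1
    ext1 t
    rw [Scheme.preimage_basicOpen_top]
  have hle : (pullback π a).basicOpen eu ≤ ju.opensRange := by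
    rw [hrange hTu (IsPullback.of_hasPullback f a), heu2]
    exact basicOpen_sum_mul_le _ _
  refine ⟨Spec Cc, a, ju ⁻¹ᵁ (pullback π a).basicOpen eu, hafp, inferInstance, inferInstance,
    ?_, ?_⟩
  · have h1 := isFinite_of_isClosed_le_opensRange ju (pullback.snd π a)
      ((pullback π a).basicOpen eu) (isClosed_basicOpen_of_isIdempotentElem heu) hle
    rw [jLift_snd] at h1
    exact h1
  · intro Y' b U' hY' hfin
    have hT' : IsPullback (pullback.fst π b) (pullback.snd π b) π b :=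
      IsPullback.of_hasPullback _ _
    let j' : pullback f b ⟶ pullback π b := jLift fac hT' (IsPullback.of_hasPullback f b)
    haveI : IsAffine (pullback π b) := isAffine_of_isAffineHom (pullback.snd π b)
    have hfin' : IsFinite (U'.ι ≫ j' ≫ pullback.snd π b) := by
      rw [jLift_snd]; exact hfin
    have hcl := isClosed_image_of_isFinite j' (pullback.snd π b) U' hfin'
    obtain ⟨e', he', hbo⟩ := exists_idempotent_basicOpen_eq (j' ''ᵁ U') hcl
    have hle' : (pullback π b).basicOpen e' ≤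
        ⨆ t, (pullback π b).basicOpen ((pullback.fst π b).appTop (d.ι t)) := by
      rw [hbo, ← hrange hT' (IsPullback.of_hasPullback f b)]
      rintro _ ⟨z, -, rfl⟩
      exact ⟨z, rfl⟩
    obtain ⟨p, hp⟩ := d.exists_pt hT' e' he' hle'
    letI : Algebra Γ(Y, ⊤) Γ(Y', ⊤) := b.appTop.hom.toAlgebra
    let χ : d.Alg →ₐ[Γ(Y, ⊤)] Γ(Y', ⊤) := Data.Pt.toHom p
    let χ' : Cc ⟶ Γ(Y', ⊤) := CommRingCat.ofHom χ.toRingHom
    have hχ : φ ≫ χ' = b.appTop := by
      ext x
      exact χ.commutes x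
    let c : Y' ⟶ Spec Cc := Y'.toSpecΓ ≫ Spec.map χ'
    have hc : c ≫ a = b := by
      change (Y'.toSpecΓ ≫ Spec.map χ') ≫ Spec.map φ ≫ Y.isoSpec.inv = b
      rw [Category.assoc, ← Spec.map_comp_assoc, hχ, ← Scheme.toSpecΓ_naturality_assoc,
        ← Scheme.isoSpec_hom, Iso.hom_inv_id, Category.comp_id]
    have hcγ : γ ≫ c.appTop = χ' := by
      change γ ≫ (Y'.toSpecΓ ≫ Spec.map χ').appTop = χ'
      rw [Scheme.Hom.comp_appTop, ← Category.assoc, ← Scheme.ΓSpecIso_inv_naturality,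
        Category.assoc, Scheme.toSpecΓ_appTop, Iso.inv_hom_id, Category.comp_id]
    refine ⟨c, hc, ?_⟩
    -- the induced maps on pullbacks
    let κ := pullback.map f b f a (𝟙 X) c (𝟙 Y)
      ((Category.comp_id f).trans (Category.id_comp f).symm)
      ((Category.comp_id b).trans hc.symm)
    let τ : pullback π b ⟶ pullback π a := pullback.map π b π a (𝟙 T) c (𝟙 Y)
      ((Category.comp_id π).trans (Category.id_comp π).symm)
      ((Category.comp_id b).trans hc.symm)
    have hτ1 : τ ≫ pullback.fst π a = pullback.fst π b := by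
      rw [pullback.lift_fst, Category.comp_id]
    have hτ2 : τ ≫ pullback.snd π a = pullback.snd π b ≫ c := pullback.lift_snd _ _ _
    have hκ1 : κ ≫ pullback.fst f a = pullback.fst f b := by
      rw [pullback.lift_fst, Category.comp_id]
    have hκ2 : κ ≫ pullback.snd f a = pullback.snd f b ≫ c := pullback.lift_snd _ _ _
    have hκτ : κ ≫ ju = j' ≫ τ := by
      apply pullback.hom_ext
      · rw [Category.assoc, jLift_fst, ← Category.assoc, hκ1, Category.assoc, hτ1, jLift_fst]
      · calc (κ ≫ ju) ≫ pullback.snd π a = κ ≫ pullback.snd f a := by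
              rw [Category.assoc]; congr 1; exact jLift_snd _ _ _
          _ = pullback.snd f b ≫ c := hκ2
          _ = (j' ≫ pullback.snd π b) ≫ c := by
              congr 1; exact (jLift_snd _ _ _).symm
          _ = (j' ≫ τ) ≫ pullback.snd π a := by
              rw [Category.assoc, Category.assoc, hτ2]
    have hτe : τ.appTop eu = e' := by
      rw [← hp]
      change τ.appTop (Phi (pullback.fst π a) (pullback.snd π a) d.e pu.β) = _
      rw [appTop_Phi d.e τ c hτ1 hτ2]
      refine Phi_congr d.e fun i => ?_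
      change c.appTop (γ (QAlg.gen (Sum.inl i))) = p.β i
      rw [← Data.Pt.toHom_gen p i]
      exact congrArg (fun m : Cc ⟶ Γ(Y', ⊤) => m (QAlg.gen (Sum.inl i))) hcγ
    change κ ⁻¹ᵁ (ju ⁻¹ᵁ (pullback π a).basicOpen eu) = U'
    rw [← Scheme.Hom.comp_preimage, hκτ, Scheme.Hom.comp_preimage, Scheme.preimage_basicOpen_top,
      hτe, hbo, Scheme.Hom.preimage_image_eq]

end Groth.Agent.H5.FO
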